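import Cfsg.Agent.Lib.Fus.GoodIn

/-!
Sylow subgroups of symmetric groups as wreath products.
-/

set_option autoImplicit false
set_option linter.unusedSectionVars false

namespace Cfsg.Agent.Alt

open Cfsg.Agent.Fus Equiv Equiv.Perm

variable {p : ℕ} [hp : Fact p.Prime] {ι κ : Type} [Fintype ι] [DecidableEq ι] [Fintype κ]
  [DecidableEq κ]

/-- Blocks of size `p` together with some further points. -/
abbrev Pt (p : ℕ) (ι κ : Type) : Type := (ι × ZMod p) ⊕ κ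

/-- A permutation of the blocks combined with affine maps between them. -/
def aff (σ : Perm ι) (t : ι → (ZMod p)ˣ) (a : ι → ZMod p) : Perm (Pt p ι κ) :=
  Perm.sumCongr (prodShear σ fun i => (t i).mulLeft.trans (Equiv.addRight (a i))) 1

@[simp] theorem aff_inl (σ : Perm ι) (t : ι → (ZMod p)ˣ) (a : ι → ZMod p) (i : ι) (x : ZMod p) :
    aff (κ := κ) σ t a (.inl (i, x)) = .inl (σ i, t i * x + a i) := rfl

@[simp] theorem aff_inr (σ : Perm ι) (t : ι → (ZMod p)ˣ) (a : ι → ZMod p) (k : κ) :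
    aff σ t a (.inr k) = .inr k := rfl

theorem aff_mul (σ σ' : Perm ι) (t t' : ι → (ZMod p)ˣ) (a a' : ι → ZMod p) :
    aff (κ := κ) σ t a * aff σ' t' a' =
      aff (σ * σ') (fun i => t (σ' i) * t' i) fun i => t (σ' i) * a' i + a (σ' i) := by
  ext (⟨i, x⟩ | k) <;> simp [mul_add, mul_assoc, add_assoc]

theorem aff_one : aff (κ := κ) (1 : Perm ι) (1 : ι → (ZMod p)ˣ) 0 = 1 := by
  ext (⟨i, x⟩ | k) <;> simp

theorem aff_inj {σ σ' : Perm ι} {t t' : ι → (ZMod p)ˣ} {a a' : ι → ZMod p}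
    (h : aff (κ := κ) σ t a = aff σ' t' a') : σ = σ' ∧ t = t' ∧ a = a' := by
  have h0 := fun i x => congrArg (· (.inl (i, x))) h
  simp only [aff_inl, Sum.inl.injEq, Prod.mk.injEq] at h0
  have h1 : a = a' := funext fun i => by simpa using (h0 i 0).2
  exact ⟨Perm.ext fun i => (h0 i 0).1, funext fun i => Units.ext (by simpa [h1] using (h0 i 1).2),
    h1⟩

/-- Translations within the blocks. -/
def tr (a : ι → ZMod p) : Perm (Pt p ι κ) := aff 1 1 a

variable (p κ) in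
/-- Permutations of the blocks. -/
def blk : Perm ι →* Perm (Pt p ι κ) :=
  MonoidHom.mk' (fun σ => aff σ 1 0) fun σ σ' => by ext (⟨i, x⟩ | k) <;> simp

variable (κ) in
/-- Multiplications within the blocks. -/
def dia : (ι → (ZMod p)ˣ) →* Perm (Pt p ι κ) :=
  MonoidHom.mk' (fun t => aff 1 t 0) fun t t' => by ext (⟨i, x⟩ | k) <;> simp [mul_assoc]

@[simp] theorem tr_inl (a : ι → ZMod p) (i : ι) (x : ZMod p) :
    tr (κ := κ) a (.inl (i, x)) = .inl (i, x + a i) := by simp [tr]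

@[simp] theorem tr_inr (a : ι → ZMod p) (k : κ) : tr a (.inr k) = .inr k := rfl

@[simp] theorem blk_inl (σ : Perm ι) (i : ι) (x : ZMod p) :
    blk p κ σ (.inl (i, x)) = .inl (σ i, x) := by simp [blk]

@[simp] theorem blk_inr (σ : Perm ι) (k : κ) : blk p κ σ (.inr k) = .inr k := rfl

@[simp] theorem dia_inl (t : ι → (ZMod p)ˣ) (i : ι) (x : ZMod p) :
    dia κ t (.inl (i, x)) = .inl (i, t i * x) := by simp [dia]

@[simp] theorem dia_inr (t : ι → (ZMod p)ˣ) (k : κ) : dia κ t (.inr k) = .inr k := rfl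

theorem aff_eq (σ : Perm ι) (t : ι → (ZMod p)ˣ) (a : ι → ZMod p) :
    aff (κ := κ) σ t a = blk p κ σ * tr a * dia κ t := by
  ext (⟨i, x⟩ | k) <;> simp

theorem tr_add (a b : ι → ZMod p) : tr (κ := κ) (a + b) = tr a * tr b := by
  ext (⟨i, x⟩ | k) <;> simp [add_assoc, add_comm (a _)]

theorem tr_zero : tr (κ := κ) (0 : ι → ZMod p) = 1 := aff_one

theorem tr_neg (a : ι → ZMod p) : tr (κ := κ) (-a) = (tr a)⁻¹ :=
  eq_inv_of_mul_eq_one_left (by rw [← tr_add, neg_add_cancel, tr_zero])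

theorem tr_sub (a b : ι → ZMod p) : tr (κ := κ) (a - b) = tr a * (tr b)⁻¹ := by
  rw [sub_eq_add_neg, tr_add, tr_neg]

theorem tr_comm (a b : ι → ZMod p) : tr (κ := κ) a * tr b = tr b * tr a := by
  rw [← tr_add, ← tr_add, add_comm]

theorem tr_nsmul (n : ℕ) (a : ι → ZMod p) : tr (κ := κ) (n • a) = tr a ^ n := by
  induction n with
  | zero => simp [tr_zero]
  | succ n ih => rw [succ_nsmul, tr_add, ih, pow_succ]

theorem tr_pow (a : ι → ZMod p) : tr (κ := κ) a ^ p = 1 := by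
  rw [← tr_nsmul, ← tr_zero]
  congr 1
  ext i
  simp

theorem aff_mul_tr (σ : Perm ι) (t : ι → (ZMod p)ˣ) (a b : ι → ZMod p) :
    aff (κ := κ) σ t a * tr b * (aff σ t a)⁻¹ = tr fun i => (t (σ⁻¹ i) : ZMod p) * b (σ⁻¹ i) := by
  rw [mul_inv_eq_iff_eq_mul]
  ext (⟨i, x⟩ | k) <;> simp
  ring

theorem blk_mul_tr (σ : Perm ι) (b : ι → ZMod p) :
    blk p κ σ * tr b * (blk p κ σ)⁻¹ = tr fun i => b (σ⁻¹ i) := by
  simpa [blk] using aff_mul_tr (κ := κ) σ 1 0 b

theorem sign_blk (σ : Perm ι) : sign (blk p κ σ) = sign σ ^ p := by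
  have : blk p κ σ = Perm.sumCongr (prodCongrLeft fun _ : ZMod p => σ) 1 := by
    ext (⟨i, x⟩ | k) <;> simp
  simp [this, sign_prodCongrLeft]

variable (p κ) in
/-- The wreath product of `C_p` with a group of permutations of the blocks. -/
def W (P : Subgroup (Perm ι)) : Subgroup (Perm (Pt p ι κ)) where
  carrier := {g | ∃ σ ∈ P, ∃ a, g = blk p κ σ * tr a}
  one_mem' := ⟨1, one_mem P, 0, by simp [tr_zero]⟩
  mul_mem' := by
    rintro _ _ ⟨σ, hσ, a, rfl⟩ ⟨τ, hτ, b, rfl⟩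
    refine ⟨_, mul_mem hσ hτ, (fun i => a (τ i)) + b, ?_⟩
    ext (⟨i, x⟩ | k) <;> simp
    ring
  inv_mem' := by
    rintro _ ⟨σ, hσ, a, rfl⟩
    refine ⟨_, inv_mem hσ, fun i => -a (σ⁻¹ i), inv_eq_of_mul_eq_one_right ?_⟩
    ext (⟨i, x⟩ | k) <;> simp [-map_inv]

theorem tr_mem_W {P : Subgroup (Perm ι)} (a : ι → ZMod p) : tr a ∈ W p κ P :=
  ⟨1, one_mem P, a, by simp⟩

theorem blk_mem_W {P : Subgroup (Perm ι)} {σ : Perm ι} (h : σ ∈ P) : blk p κ σ ∈ W p κ P :=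
  ⟨σ, h, 0, by simp [tr_zero]⟩

theorem W_mono {P Q : Subgroup (Perm ι)} (h : P ≤ Q) : W p κ P ≤ W p κ Q :=
  fun _ ⟨σ, hσ, a, e⟩ => ⟨σ, h hσ, a, e⟩

theorem mem_W_bot {g : Perm (Pt p ι κ)} : g ∈ W p κ ⊥ ↔ ∃ a, g = tr a :=
  ⟨fun ⟨σ, hσ, a, e⟩ => ⟨a, by simpa [Subgroup.mem_bot.1 hσ] using e⟩,
    fun ⟨a, e⟩ => e ▸ tr_mem_W a⟩

theorem card_W (P : Subgroup (Perm ι)) :
    Nat.card (W p κ P) = Nat.card P * p ^ Fintype.card ι := by
  refine (Nat.card_eq_of_bijective (fun x : P × (ι → ZMod p) =>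
    (⟨_, x.1, x.1.2, x.2, rfl⟩ : W p κ P)) ⟨fun x y h => ?_, ?_⟩).symm.trans (by simp)
  · have := aff_inj (κ := κ) (σ := x.1) (σ' := y.1) (t := 1) (t' := 1) (a := x.2) (a' := y.2)
      (by simpa [aff_eq] using congrArg Subtype.val h)
    exact Prod.ext (Subtype.ext this.1) this.2.2
  · rintro ⟨_, σ, hσ, a, rfl⟩
    exact ⟨(⟨σ, hσ⟩, a), rfl⟩

theorem isSylowIn_W (hκ : Fintype.card κ < p) {P : Subgroup (Perm ι)} (hP : IsSylowIn p P ⊤) :
    IsSylowIn p (W p κ P) ⊤ := by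
  refine isSylowIn_of_card le_top ?_
  rw [card_W, hP.card_eq, ← pow_add]
  simp only [Subgroup.card_top, Fintype.card_perm, Nat.card_eq_fintype_card, Fintype.card_sum,
    Fintype.card_prod, ZMod.card, Nat.factorization_def _ hp.out]
  rw [mul_comm, padicValNat_factorial_mul_add _ hκ, padicValNat_factorial_mul]

theorem closure_pow_eq_one_of_equiv {G G' : Type*} [Group G] [Group G'] [Finite G'] (e : G ≃* G')
    {U : Subgroup G} (hU : IsSylowIn p U ⊤) (h : U ≤ .closure {x | x ∈ U ∧ x ^ p = 1})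
    {P : Subgroup G'} (hP : IsSylowIn p P ⊤) : P ≤ .closure {x | x ∈ P ∧ x ^ p = 1} := by
  have h1 := hU.map_equiv e
  rw [Subgroup.map_top_of_surjective _ e.surjective] at h1
  obtain ⟨g, -, hg⟩ := hP.exists_conj_mem h1.isPGroup le_top
  have h2 := h1.map_equiv (MulAut.conj g)
  rw [Subgroup.map_top_of_surjective _ (MulAut.conj g).surjective, Subgroup.map_map] at h2
  have h3 := h2.eq_of_le hP.isPGroup (by
    rintro _ ⟨u, hu, rfl⟩
    exact hg _ ⟨u, hu, rfl⟩) le_top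
  rw [h3]
  refine (Subgroup.map_mono h).trans ?_
  rw [MonoidHom.map_closure]
  refine Subgroup.closure_mono ?_
  rintro _ ⟨x, hx, rfl⟩
  exact ⟨⟨x, hx.1, rfl⟩, by rw [← map_pow, hx.2, map_one]⟩

/-- Sylow `p`-subgroups of symmetric groups are generated by elements of order `p`. -/
theorem sylow_le_closure (n : ℕ) : ∀ (α : Type) [Fintype α] [DecidableEq α], Fintype.card α = n →
    ∀ P : Subgroup (Perm α), IsSylowIn p P ⊤ → P ≤ .closure {x | x ∈ P ∧ x ^ p = 1} := by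
  induction n using Nat.strong_induction_on with
  | _ n ih =>
    intro α _ _ hα P hP
    by_cases hn : n = 0
    · have : IsEmpty α := Fintype.card_eq_zero_iff.1 (hα.trans hn)
      exact fun x _ => Subsingleton.elim 1 x ▸ one_mem _
    obtain ⟨Q, hQ⟩ := exists_isSylowIn p (⊤ : Subgroup (Perm (Fin (n / p))))
    have h1 := ih _ (Nat.div_lt_self (Nat.pos_of_ne_zero hn) hp.out.one_lt) _ (Fintype.card_fin _)
      Q hQ
    refine closure_pow_eq_one_of_equiv (Fintype.equivOfCardEq (α := Pt p (Fin (n / p)) (Fin (n % p)))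
      (by simp [hα, Nat.div_add_mod'])).permCongrHom
      (isSylowIn_W (by simpa using Nat.mod_lt _ hp.out.pos) hQ) ?_ hP
    rintro _ ⟨σ, hσ, a, rfl⟩
    refine mul_mem (Subgroup.mem_comap.1 ((Subgroup.closure_le _).2 ?_ (h1 hσ)))
      (Subgroup.subset_closure ⟨tr_mem_W a, tr_pow a⟩)
    exact fun x hx => Subgroup.subset_closure ⟨blk_mem_W hx.1, by rw [← map_pow, hx.2, map_one]⟩

end Cfsg.Agent.Alt
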